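import Groth.Agent.AlgStLift.Field
import Groth.Agent.AlgStBasic.StCover
import Groth.Agent.AlgStBasic.StCompact
import Groth.Agent.AlgStBasic.LocalLift
import Groth.Agent.AlgStImm.DiagQc
import Groth.Agent.AlgStDVR.Points
import Mathlib.FieldTheory.IsAlgClosed.AlgebraicClosure

/-!
# Lifting algebraically closed points along morphisms with surjective diagonal

For a morphism of algebraic stacks whose diagonal is surjective on points, 2-arrows and points over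
algebraically closed fields lift without extending the field.
-/

set_option autoImplicit false
set_option backward.isDefEq.respectTransparency false
set_option backward.isDefEq.respectTransparency.types false

universe u

open CategoryTheory CategoryTheory.Limits AlgebraicGeometry Opposite
open Groth.StkBase Groth.AlgStBasic Groth.AlgSpBasic Groth.AlgStDVR

noncomputable section

namespace Groth.AlgStLift

variable {S : Scheme.{u}} {𝒳 𝒴 : AlgSt.Cat S}

theorem nonempty_overMap_id_iso' (U : Over S) :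
    Nonempty (AlgSt.overMap (𝟙 U) ≅ BasedFunctor.id (FibCat.overCat U : AlgSt.Cat S)) :=
  (nonempty_overIso_iff (isFibGrpd_overCat U) _ _).2
    ⟨eqToHom (congrArg Over.mk (Category.comp_id _)), isVert_eqToHom _⟩

/-- The point of the chart of an object over a field. -/
theorem ofChart_overFunctor {𝒱 : AlgSt.Cat S} (hV : FibCat.IsFibGrpd 𝒱.p) {K : Type u} [Field K]
    (s : Spec (CommRingCat.of K) ⟶ S) (v : 𝒱.obj) (hv : 𝒱.p.obj v = Over.mk s)
    (t : ↥(Over.mk s).left) :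
    AlgSt.Points.ofChart (overFunctor hV v hv) t = AlgSt.Points.mk ⟨K, s, v, hv⟩ := by
  obtain ⟨i, -⟩ := overFunctor_eval hV v hv
  rw [ofChart_eq_map]
  have h1 : AlgSt.Points.ofChart (BasedFunctor.id (FibCat.overCat (Over.mk s))) t = AlgSt.Points.mk
      ({ K := K, str := s, obj := idObj (Over.mk s), lies := rfl } :
        AlgSt.FPt (FibCat.overCat (Over.mk s))) := by
    rw [← ofChart_id_ptToScheme (AlgSt.Points.mk _)]
    exact congrArg _ (Subsingleton.elim (α := PrimeSpectrum K) _ _)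
  rw [h1]
  exact mk_eq_of_hom (p := AlgSt.FPt.map _ _) (q := ⟨K, s, v, hv⟩) i.hom

/-- Points over an algebraically closed field lift along morphisms locally of finite type. -/
theorem exists_lift_of_lft (hX : AlgSt.IsAlgStack Scheme.fppfPrecoverage 𝒳)
    (hY : AlgSt.IsAlgStack Scheme.fppfPrecoverage 𝒴) (g : 𝒳 ⥤ᵇ 𝒴)
    (hg : AlgSt.LocQ (AlgSp.LocP @LocallyOfFiniteType) g) {k : Type u} [Field k] [IsAlgClosed k]
    (s : Spec (CommRingCat.of k) ⟶ S) (v : 𝒴.obj) (hv : 𝒴.p.obj v = Over.mk s)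
    (h : AlgSt.Points.mk ⟨k, s, v, hv⟩ ∈ Set.range (AlgSt.Points.map g)) :
    ∃ (x : 𝒳.obj) (φ : g.obj x ⟶ v), 𝒳.p.obj x = Over.mk s ∧ IsVert 𝒴.p φ := by
  let y := overFunctor hY.isStack.1 v hv
  obtain ⟨W, α, x', ⟨e⟩, hrange, hP⟩ := exists_scheme_lift hX hY g y
  have : LocallyOfFiniteType α.left :=
    hP (fun _ _ a (_ : Smooth a) => inferInstance) isSmoothLocalST_lft hg
  obtain ⟨w, -⟩ := hrange (IsLocalRing.closedPoint k)
    (by rw [ofChart_overFunctor hY.isStack.1 s v hv]; exact h)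
  have : Nonempty ↥W.left := ⟨w⟩
  obtain ⟨σ, hσ⟩ := exists_point (W := W.left) α.left
  let σO : Over.mk s ⟶ W := Over.homMk σ (by
    show σ ≫ W.hom = s
    rw [← Over.w α]
    exact (Category.assoc _ _ _).symm.trans ((congrArg (· ≫ s) hσ).trans (Category.id_comp _)))
  obtain ⟨i₁⟩ := nonempty_overMap_id_iso' (Over.mk s)
  let ε : BasedFunctor.comp (BasedFunctor.comp (AlgSt.overMap σO) x') g ≅ y :=
    (whiskerLeftIso (AlgSt.overMap σO) e).trans (whiskerRightIso ((overMapComp σO α).trans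
      ((overMapCongr (Over.OverMorphism.ext hσ)).trans i₁)) y)
  obtain ⟨i, hi⟩ := overFunctor_eval hY.isStack.1 v hv
  exact ⟨(BasedFunctor.comp (AlgSt.overMap σO) x').obj (idObj _),
    (isoApp ε (idObj _)).hom ≫ i.hom, (BasedFunctor.comp (AlgSt.overMap σO) x').w_obj _,
    (isVert_isoApp _ _).comp hi⟩

theorem isAlgStack_fp_self (hX : AlgSt.IsAlgStack Scheme.fppfPrecoverage 𝒳)
    (hY : AlgSt.IsAlgStack Scheme.fppfPrecoverage 𝒴) (f : 𝒳 ⥤ᵇ 𝒴) :
    AlgSt.IsAlgStack Scheme.fppfPrecoverage (FibCat.fp f f) :=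
  isAlgStack_fp hY.isStack hY.diag hX hX f f

/-- Surjective diagonal: 2-arrows over algebraically closed fields lift. -/
theorem exists_lift_hom (hX : AlgSt.IsAlgStack Scheme.fppfPrecoverage 𝒳)
    (hY : AlgSt.IsAlgStack Scheme.fppfPrecoverage 𝒴) (f : 𝒳 ⥤ᵇ 𝒴)
    (hΔ : AlgSt.IsSurjective (FibCat.diag f)) {k : Type u} [Field k] [IsAlgClosed k]
    (s : Spec (CommRingCat.of k) ⟶ S) {a₁ a₂ : 𝒳.obj} (h₁ : 𝒳.p.obj a₁ = Over.mk s)
    (β : f.obj a₁ ⟶ f.obj a₂) (hβ : IsVert 𝒴.p β) :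
    ∃ α : a₁ ⟶ a₂, IsVert 𝒳.p α ∧ f.map α = β := by
  have hX₁ := hX.isStack.1
  have := hβ.isIso hY.isStack.1
  let v : (FibCat.fp f f).obj := fpMk a₁ a₂ (asIso β) hβ
  obtain ⟨w, φ, -, hφ⟩ := exists_lift_of_lft hX (isAlgStack_fp_self hX hY f) (FibCat.diag f)
    (locQ_of_repWith stableBaseChange_locP descendsAlongAtlas_locP isSmoothLocalST_lft hX
      (isAlgStack_fp_self hX hY f) (repWith_lft_diag hX hY f)) s v h₁ (hΔ _)
  have hφ₁ : IsVert 𝒳.p φ.hom.fst := (isVert_fp_iff φ).1 hφ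
  have hφ₂ : IsVert 𝒳.p φ.hom.snd := by
    refine ⟨(fp_p_snd _).trans (hφ₁.obj_eq.trans (fp_p_snd _).symm), ?_⟩
    rw [fp_map_snd]
    simp [hφ₁.map_eq]
  have := hφ₁.isIso hX₁
  have hw : f.map φ.hom.fst ≫ β = 𝟙 (f.obj w) ≫ f.map φ.hom.snd := φ.hom.w
  refine ⟨inv φ.hom.fst ≫ φ.hom.snd, (IsVert.inv (φ := asIso φ.hom.fst) hφ₁).comp hφ₂, ?_⟩
  rw [Functor.map_comp, Functor.map_inv, IsIso.inv_comp_eq, hw]
  exact (Category.id_comp (f.map φ.hom.snd)).symm

/-- Lifting 2-arrows over algebraically closed fields makes the diagonal surjective. -/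
theorem isSurjective_diag_of_lift_hom (hX : FibCat.IsFibGrpd 𝒳.p) (hY : FibCat.IsFibGrpd 𝒴.p)
    (f : 𝒳 ⥤ᵇ 𝒴)
    (H : ∀ (k : Type u) [Field k] [IsAlgClosed k] (s : Spec (CommRingCat.of k) ⟶ S) (a₁ a₂ : 𝒳.obj),
      𝒳.p.obj a₁ = Over.mk s → 𝒳.p.obj a₂ = Over.mk s → ∀ β : f.obj a₁ ⟶ f.obj a₂,
        IsVert 𝒴.p β → ∃ α : a₁ ⟶ a₂, f.map α = β) :
    AlgSt.IsSurjective (FibCat.diag f) := fun z => by
  obtain ⟨p, rfl⟩ := AlgSt.Points.mk_surjective z
  let d : Over.mk (Spec.map (CommRingCat.ofHom (algebraMap p.K (AlgebraicClosure p.K))) ≫ p.str) ⟶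
      Over.mk p.str :=
    Over.homMk (Spec.map (CommRingCat.ofHom (algebraMap p.K (AlgebraicClosure p.K)))) rfl
  obtain ⟨v, hv, φ, -⟩ := exists_pullback_pt (isFibGrpd_fp hX hX hY) p d
  obtain ⟨α, hα⟩ := H (AlgebraicClosure p.K) _ v.obj.fst v.obj.snd hv ((fp_p_snd v).trans hv)
    v.obj.iso.hom (fp_isVert v)
  refine ⟨AlgSt.Points.mk ⟨AlgebraicClosure p.K, _, v.obj.fst, hv⟩, ?_⟩
  refine (mk_eq_of_hom (p := AlgSt.FPt.map _ ⟨AlgebraicClosure p.K, _, v.obj.fst, hv⟩)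
    (q := ⟨AlgebraicClosure p.K, _, v, hv⟩) ?_).trans
    (mk_eq_of_hom (p := ⟨AlgebraicClosure p.K, _, v, hv⟩) (q := p) φ)
  exact fpHom (x := (FibCat.diag f).obj v.obj.fst) (y := v) (𝟙 _) α (by
    show f.map (𝟙 _) ≫ v.obj.iso.hom = 𝟙 _ ≫ f.map α
    rw [hα]; simp)

end Groth.AlgStLift
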