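import Mathlib.AlgebraicGeometry.Morphisms.FiniteType
import Mathlib.AlgebraicGeometry.AlgClosed.Basic
import Mathlib.FieldTheory.IsAlgClosed.Basic
import Mathlib.RingTheory.Flat.TorsionFree
import Mathlib.RingTheory.Ideal.GoingDown
import Mathlib.RingTheory.Spectrum.Prime.Chevalley
import Mathlib.RingTheory.PolynomialAlgebra

/-!
# Extensions of an algebraically closed field whose pairs of embeddings are bounded

If the pairs of embeddings of an extension `L` of an algebraically closed field `k` into larger fields
are all covered by a scheme locally of finite type over `L` by the first embedding, then `L = k`.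
-/

set_option autoImplicit false

universe u

open CategoryTheory AlgebraicGeometry Polynomial TensorProduct

namespace Groth.AlgStLift

variable {k L : Type u} [Field k] [Field L] [Algebra k L]

/-- Two embeddings making a transcendental element algebraically independent of the field. -/
theorem exists_transcendental_pair {t : L} (ht : Transcendental k t) :
    ∃ (Ω : Type u) (_ : Field Ω) (i j : L →+* Ω),
      i.comp (algebraMap k L) = j.comp (algebraMap k L) ∧
      Function.Injective (eval₂RingHom i (j t)) := by
  let ψ : L[X] →+* L ⊗[k] L := eval₂RingHom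
    (Algebra.TensorProduct.includeLeft (S := k) : L →ₐ[k] L ⊗[k] L).toRingHom (1 ⊗ₜ t)
  have hψ : Function.Injective ψ := by
    have h1 : Function.Injective (LinearMap.lTensor L (aeval (R := k) t).toLinearMap) :=
      Module.Flat.lTensor_preserves_injective_linearMap _ (transcendental_iff_injective.1 ht)
    have h2 : ψ = ((Algebra.TensorProduct.map (AlgHom.id k L) (aeval (R := k) t)).comp
        (polyEquivTensor k L).toAlgHom).toRingHom := by
      refine Polynomial.ringHom_ext (fun a => ?_) ?_
      · simp [ψ, polyEquivTensor_apply]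
      · simp [ψ, polyEquivTensor_apply]
    rw [h2]
    exact h1.comp (polyEquivTensor k L).injective
  obtain ⟨q, hq, hq'⟩ := Ideal.exists_comap_eq_of_mem_minimalPrimes_of_injective hψ ⊥
    (IsDomain.minimalPrimes_eq_singleton_bot L[X] ▸ rfl)
  let π : L ⊗[k] L →+* q.ResidueField := algebraMap (L ⊗[k] L) q.ResidueField
  refine ⟨q.ResidueField, inferInstance,
    π.comp (Algebra.TensorProduct.includeLeft (S := k) : L →ₐ[k] L ⊗[k] L).toRingHom,
    π.comp (Algebra.TensorProduct.includeRight : L →ₐ[k] L ⊗[k] L).toRingHom, ?_, ?_⟩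
  · ext c
    simp only [RingHom.comp_apply, AlgHom.toRingHom_eq_coe, RingHom.coe_coe, AlgHom.commutes]
  · refine (injective_iff_map_eq_zero _).2 fun p hp => ?_
    have h : π (ψ p) = 0 := by
      rw [← hp]
      exact Polynomial.hom_eval₂ p _ π _
    have h' : ψ p ∈ q := Ideal.algebraMap_residueField_eq_zero.1 h
    have : p ∈ Ideal.comap ψ q := h'
    rwa [hq', Ideal.mem_bot] at this

/-- The algebraic core: a transcendental element cannot be independent over the first factor in a
ring of finite type over it in which its differences with constants stay units. -/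
theorem not_injective_eval₂ [IsAlgClosed k] {R Ω : Type u} [CommRing R] [Field Ω] (α β : L →+* R)
    (hα : α.FiniteType) (hc : α.comp (algebraMap k L) = β.comp (algebraMap k L)) (ν : R →+* Ω)
    {t : L} (ht : t ∉ Set.range (algebraMap k L)) :
    ¬ Function.Injective (eval₂RingHom (ν.comp α) (ν (β t))) := by
  intro hinj
  let I := RingHom.ker ν
  have : I.IsPrime := RingHom.ker_isPrime ν
  let φ : L[X] →+* R ⧸ I :=
    eval₂RingHom ((Ideal.Quotient.mk I).comp α) (Ideal.Quotient.mk I (β t))
  have hφ : Function.Injective φ := by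
    refine (injective_iff_map_eq_zero _).2 fun p hp => hinj ?_
    rw [map_zero]
    let l : R ⧸ I →+* Ω := Ideal.Quotient.lift I ν fun _ h => h
    have h : l (φ p) = 0 := by rw [hp, map_zero]
    rw [← h]
    exact (Polynomial.hom_eval₂ p ((Ideal.Quotient.mk I).comp α) l (Ideal.Quotient.mk I (β t))).symm
  have hft : φ.FiniteType := by
    refine RingHom.FiniteType.of_comp_finiteType (f := C) ?_
    have : φ.comp C = (Ideal.Quotient.mk I).comp α := by
      ext a
      simp [φ]
    rw [this]
    exact hα.comp_surjective Ideal.Quotient.mk_surjective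
  algebraize [φ]
  have : Algebra.FinitePresentation L[X] (R ⧸ I) := Algebra.FinitePresentation.of_finiteType.1 hft
  have : FaithfulSMul L[X] (R ⧸ I) := (faithfulSMul_iff_algebraMap_injective _ _).2 hφ
  have : Module.IsTorsionFree L[X] (R ⧸ I) := inferInstance
  have : Module.Flat L[X] (R ⧸ I) := inferInstance
  have hopen : IsOpen (Set.range (PrimeSpectrum.comap φ)) :=
    (PrimeSpectrum.isOpenMap_comap_of_hasGoingDown_of_finitePresentation
      (R := L[X]) (S := R ⧸ I)).isOpen_range
  have hbot : (⟨⊥, Ideal.isPrime_bot⟩ : PrimeSpectrum L[X]) ∈ Set.range (PrimeSpectrum.comap φ) :=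
    ⟨⟨⊥, Ideal.isPrime_bot⟩, PrimeSpectrum.ext (Ideal.comap_bot_of_injective _ hφ)⟩
  obtain ⟨_, ⟨g, rfl⟩, hg, hsub⟩ :=
    PrimeSpectrum.isTopologicalBasis_basic_opens.exists_subset_of_mem_open hbot hopen
  have hg0 : g ≠ 0 := fun h => hg (by simp [h])
  obtain ⟨c, hc'⟩ : ∃ c : k, ¬ g.IsRoot (algebraMap k L c) := by
    by_contra h
    refine hg0 (Polynomial.eq_zero_of_infinite_isRoot g ?_)
    exact Set.infinite_of_injective_forall_mem (algebraMap k L).injective
      fun c => not_not.1 fun hn => h ⟨c, hn⟩
  let P : PrimeSpectrum L[X] :=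
    ⟨Ideal.span {X - C (algebraMap k L c)},
      (Ideal.span_singleton_prime (Polynomial.X_sub_C_ne_zero _)).2 (Polynomial.prime_X_sub_C _)⟩
  obtain ⟨Q, hQ⟩ := hsub (show P ∈ PrimeSpectrum.basicOpen g from fun h =>
    hc' (Polynomial.dvd_iff_isRoot.1 (Ideal.mem_span_singleton.1 h)))
  have hmem : φ (X - C (algebraMap k L c)) ∈ Q.asIdeal := by
    have : X - C (algebraMap k L c) ∈ (PrimeSpectrum.comap φ Q).asIdeal := by
      rw [hQ]; exact Ideal.mem_span_singleton_self _
    exact this
  have hne : t - algebraMap k L c ≠ 0 := fun h => ht ⟨c, (sub_eq_zero.1 h).symm⟩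
  refine Q.2.ne_top (Ideal.eq_top_of_isUnit_mem _ hmem ?_)
  have e : φ (X - C (algebraMap k L c)) = Ideal.Quotient.mk I (β (t - algebraMap k L c)) := by
    have := congrArg (fun f : k →+* R => f c) hc
    simp only [RingHom.comp_apply] at this
    simp [φ, this]
  rw [e]
  exact ((isUnit_iff_ne_zero.2 hne).map β).map (Ideal.Quotient.mk I)

/-- An algebraically closed field has no nontrivial extension all of whose pairs of embeddings are
covered by a scheme locally of finite type over the first factor. -/
theorem algebraMap_surjective_of_pairs [IsAlgClosed k] {W : Scheme.{u}}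
    (a b : W ⟶ Spec (CommRingCat.of L)) [LocallyOfFiniteType a]
    (hab : a ≫ Spec.map (CommRingCat.ofHom (algebraMap k L)) =
      b ≫ Spec.map (CommRingCat.ofHom (algebraMap k L)))
    (H : ∀ (Ω : Type u) [Field Ω] (i j : L →+* Ω),
      i.comp (algebraMap k L) = j.comp (algebraMap k L) →
      ∃ (Ω' : Type u) (_ : Field Ω') (μ : Ω →+* Ω') (u : Spec (CommRingCat.of Ω') ⟶ W),
        u ≫ a = Spec.map (CommRingCat.ofHom (μ.comp i)) ∧
        u ≫ b = Spec.map (CommRingCat.ofHom (μ.comp j))) :
    Function.Surjective (algebraMap k L) := by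
  intro t
  by_contra ht
  have htr : Transcendental k t := fun halg => ht (by
    have hint : IsIntegral k t := halg.isIntegral
    have := IsAlgClosed.degree_eq_one_of_irreducible k (minpoly.irreducible hint)
    exact minpoly.mem_range_of_degree_eq_one k t this)
  obtain ⟨Ω, _, i, j, hij, hinj⟩ := exists_transcendental_pair htr
  obtain ⟨Ω', _, μ, u, hu₁, hu₂⟩ := H Ω i j hij
  obtain ⟨V, hV, hwV, -⟩ := exists_isAffineOpen_mem_and_subset (X := W)
    (x := u (IsLocalRing.closedPoint Ω')) (U := ⊤) trivial
  have hr : Set.range u ⊆ Set.range hV.fromSpec := by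
    rw [hV.range_fromSpec]
    rintro _ ⟨z, rfl⟩
    obtain rfl : z = IsLocalRing.closedPoint Ω' := Subsingleton.elim (α := PrimeSpectrum Ω') _ _
    exact hwV
  let u' := IsOpenImmersion.lift hV.fromSpec u hr
  have hu' : u' ≫ hV.fromSpec = u := IsOpenImmersion.lift_fac _ _ _
  let α : L →+* Γ(W, V) := (Spec.preimage (hV.fromSpec ≫ a)).hom
  let β : L →+* Γ(W, V) := (Spec.preimage (hV.fromSpec ≫ b)).hom
  let ν : Γ(W, V) →+* Ω' := (Spec.preimage u').hom
  have hα : Spec.map (CommRingCat.ofHom α) = hV.fromSpec ≫ a := Spec.map_preimage _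
  have hβ : Spec.map (CommRingCat.ofHom β) = hV.fromSpec ≫ b := Spec.map_preimage _
  have hν : Spec.map (CommRingCat.ofHom ν) = u' := Spec.map_preimage _
  have hft : α.FiniteType := by
    have : LocallyOfFiniteType (Spec.map (CommRingCat.ofHom α)) := by rw [hα]; infer_instance
    exact (HasRingHomProperty.Spec_iff (P := @LocallyOfFiniteType)).1 this
  have hc : α.comp (algebraMap k L) = β.comp (algebraMap k L) := by
    have : CommRingCat.ofHom (α.comp (algebraMap k L)) =
        CommRingCat.ofHom (β.comp (algebraMap k L)) := Spec.map_injective (by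
      rw [CommRingCat.ofHom_comp, CommRingCat.ofHom_comp, Spec.map_comp, Spec.map_comp, hα, hβ,
        Category.assoc, Category.assoc, hab])
    exact congrArg CommRingCat.Hom.hom this
  have e₁ : ν.comp α = μ.comp i := by
    refine congrArg CommRingCat.Hom.hom (Spec.map_injective (a₁ := CommRingCat.ofHom _) (a₂ := CommRingCat.ofHom _) ?_)
    rw [← hu₁, CommRingCat.ofHom_comp, Spec.map_comp, hα, hν, ← Category.assoc, hu']
  have e₂ : ν.comp β = μ.comp j := by
    refine congrArg CommRingCat.Hom.hom (Spec.map_injective (a₁ := CommRingCat.ofHom _) (a₂ := CommRingCat.ofHom _) ?_)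
    rw [← hu₂, CommRingCat.ofHom_comp, Spec.map_comp, hβ, hν, ← Category.assoc, hu']
  refine not_injective_eval₂ α β hft hc ν (fun h => ht h) ?_
  rw [e₁, show ν (β t) = μ (j t) from congrArg (fun f : L →+* Ω' => f t) e₂]
  have : eval₂RingHom (μ.comp i) (μ (j t)) = μ.comp (eval₂RingHom i (j t)) := by
    ext a <;> simp
  rw [this]
  exact μ.injective.comp hinj

/-- A nonempty scheme locally of finite type over an algebraically closed field has a rational
point. -/
theorem exists_point [IsAlgClosed k] {W : Scheme.{u}} (p : W ⟶ Spec (CommRingCat.of k))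
    [LocallyOfFiniteType p] [Nonempty W] :
    ∃ σ : Spec (CommRingCat.of k) ⟶ W, σ ≫ p = 𝟙 _ := by
  have : JacobsonSpace ↥W := LocallyOfFiniteType.jacobsonSpace p
  obtain ⟨x, -, hx⟩ := nonempty_inter_closedPoints (Z := (Set.univ : Set W))
    Set.univ_nonempty isOpen_univ.isLocallyClosed
  exact ⟨_, ((pointEquivClosedPoint p).symm ⟨x, hx⟩).2⟩

end Groth.AlgStLift
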