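import Groth.Agent.AlgStLift.Diag

/-!
# Algebraically closed points lift along universally injective morphisms of stacks
-/

set_option autoImplicit false
set_option backward.isDefEq.respectTransparency false
set_option backward.isDefEq.respectTransparency.types false

universe u

open CategoryTheory CategoryTheory.Limits AlgebraicGeometry Opposite
open Groth.StkBase Groth.AlgStBasic Groth.AlgSpBasic Groth.AlgStDVR

noncomputable section

namespace Groth.AlgStLift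

variable {S : Scheme.{u}} {𝒳 𝒴 : AlgSt.Cat S}

/-- A surjective chart of the self product of a chart locally of finite type. -/
theorem exists_chart_fp {P : AlgSt.Cat S} (hP : AlgSt.IsAlgStack Scheme.fppfPrecoverage P)
    {T : Over S} (z : FibCat.overCat T ⥤ᵇ P)
    (hz : AlgSt.LocQ (AlgSp.LocP @LocallyOfFiniteType) z) :
    ∃ (W : Over S) (w : FibCat.overCat W ⥤ᵇ FibCat.fp z z) (a b : W ⟶ T),
      Function.Surjective (AlgSt.Points.ofChart w) ∧ LocallyOfFiniteType a.left ∧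
      Nonempty (BasedFunctor.comp w (FibCat.fpFst z z) ≅ AlgSt.overMap a) ∧
      Nonempty (BasedFunctor.comp w (FibCat.fpSnd z z) ≅ AlgSt.overMap b) := by
  have hT : AlgSt.IsAlgStack Scheme.fppfPrecoverage (FibCat.overCat T : AlgSt.Cat S) :=
    isAlgStack_overCat T
  have hI := isAlgStack_fp hP.isStack hP.diag hT hT z z
  obtain ⟨W, w, hw, hws⟩ := hI.atlas
  obtain ⟨a, ⟨φ⟩⟩ := exists_iso_overMap (BasedFunctor.comp w (FibCat.fpFst z z))
  obtain ⟨b, ⟨φ'⟩⟩ := exists_iso_overMap (BasedFunctor.comp w (FibCat.fpSnd z z))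
  refine ⟨W, w, a, b, surjective_ofChart hI.isStack.1 hws, ?_, ⟨φ⟩, ⟨φ'⟩⟩
  refine left_prop_of_locQ_overMap isSmoothLocalST_lft ?_
  exact locQ_of_iso φ (locQ_comp isSmoothLocalST_lft stableComp_locP (isAlgStack_overCat W) hI hT
    (locQ_of_repWith stableBaseChange_locP descendsAlongAtlas_locP isSmoothLocalST_lft
      (isAlgStack_overCat W) hI
      (repWith_locP_of_smooth (P := @LocallyOfFiniteType) (fun _ _ g (_ : Smooth g) => inferInstance)
        hw))
    (locQ_fpFst isSmoothLocalST_lft stableBaseChange_locP hT hP hT z hz))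

section Abstract

variable {P : AlgSt.Cat S} {U T W : Over S} (F : P ⥤ᵇ FibCat.overCat U)
  {z : FibCat.overCat T ⥤ᵇ P} {π : T ⟶ U} {w : FibCat.overCat W ⥤ᵇ FibCat.fp z z} {a b : W ⟶ T}

/-- The two projections of a chart of a self product agree over the base. -/
theorem comp_eq_of_chart (ε : BasedFunctor.comp z F ≅ AlgSt.overMap π)
    (φa : BasedFunctor.comp w (FibCat.fpFst z z) ≅ AlgSt.overMap a)
    (φb : BasedFunctor.comp w (FibCat.fpSnd z z) ≅ AlgSt.overMap b) : a ≫ π = b ≫ π :=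
  eq_of_overMap_iso ((overMapComp a π).symm.trans ((whiskerRightIso φa.symm _).trans
    ((whiskerLeftIso _ ε.symm).trans ((whiskerRightIso (whiskerLeftIso w (FibCat.fpIso z z)) F).trans
      ((whiskerLeftIso _ ε).trans ((whiskerRightIso φb _).trans (overMapComp b π)))))))

/-- Isomorphic pairs are refined by pairs through a surjective chart of the self product. -/
theorem exists_refinement (hP : FibCat.IsFibGrpd P.p)
    (hw : Function.Surjective (AlgSt.Points.ofChart w))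
    (φa : BasedFunctor.comp w (FibCat.fpFst z z) ≅ AlgSt.overMap a)
    (φb : BasedFunctor.comp w (FibCat.fpSnd z z) ≅ AlgSt.overMap b) {R : Over S} (t₀ : ↥R.left)
    (i j : R ⟶ T)
    (e : BasedFunctor.comp (AlgSt.overMap i) z ≅ BasedFunctor.comp (AlgSt.overMap j) z) :
    ∃ (L : Type u) (_ : Field L) (str : Spec (CommRingCat.of L) ⟶ S) (u₁ : Over.mk str ⟶ W)
      (u₂ : Over.mk str ⟶ R), u₁ ≫ a = u₂ ≫ i ∧ u₁ ≫ b = u₂ ≫ j := by
  let l : FibCat.overCat R ⥤ᵇ FibCat.fp z z :=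
    FibCat.fpLift (AlgSt.overMap i) (AlgSt.overMap j) e
  obtain ⟨t, ht⟩ := hw (AlgSt.Points.ofChart l t₀)
  have hI : FibCat.IsFibGrpd (FibCat.fp z z).p :=
    isFibGrpd_fp (isFibGrpd_overCat T) (isFibGrpd_overCat T) hP
  obtain ⟨r, -, -⟩ := exists_points_fp (isFibGrpd_overCat R) hI (isFibGrpd_overCat W)
    l w (AlgSt.Points.ofChart (BasedFunctor.id _) t) (AlgSt.Points.ofChart (BasedFunctor.id _) t₀)
    (by rw [← ofChart_eq_map, ← ofChart_eq_map, ht])
  obtain ⟨L, hL, str, m, -⟩ := Groth.AlgStImm.exists_field_through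
    (isFibGrpd_fp (isFibGrpd_overCat W) (isFibGrpd_overCat R) hI) r
  obtain ⟨u₁, ⟨η₁⟩⟩ := exists_iso_overMap (BasedFunctor.comp m (FibCat.fpFst w l))
  obtain ⟨u₂, ⟨η₂⟩⟩ := exists_iso_overMap (BasedFunctor.comp m (FibCat.fpSnd w l))
  let η : BasedFunctor.comp (AlgSt.overMap u₁) w ≅ BasedFunctor.comp (AlgSt.overMap u₂) l :=
    (whiskerRightIso η₁.symm w).trans ((whiskerLeftIso m (FibCat.fpIso w l)).trans
      (whiskerRightIso η₂ l))
  exact ⟨L, hL, str, u₁, u₂,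
    eq_of_overMap_iso ((overMapComp u₁ a).symm.trans ((whiskerLeftIso _ φa.symm).trans
      ((whiskerRightIso η (FibCat.fpFst z z)).trans (overMapComp u₂ i)))),
    eq_of_overMap_iso ((overMapComp u₁ b).symm.trans ((whiskerLeftIso _ φb.symm).trans
      ((whiskerRightIso η (FibCat.fpSnd z z)).trans (overMapComp u₂ j))))⟩

end Abstract

/-- A nonempty stack over an algebraically closed field in which pairs of algebraically closed
points over the field are isomorphic has a rational point. -/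
theorem exists_section {P : AlgSt.Cat S} (hP : AlgSt.IsAlgStack Scheme.fppfPrecoverage P)
    {k : Type u} [Field k] [IsAlgClosed k] (s : Spec (CommRingCat.of k) ⟶ S)
    (F : P ⥤ᵇ FibCat.overCat (Over.mk s)) (z : AlgSt.Points P)
    (H : ∀ (Ω : Type u) [Field Ω] [IsAlgClosed Ω] (sΩ : Spec (CommRingCat.of Ω) ⟶ S)
      (X₁ X₂ : FibCat.overCat (Over.mk sΩ) ⥤ᵇ P),
      Nonempty (BasedFunctor.comp X₁ F ≅ BasedFunctor.comp X₂ F) → Nonempty (X₁ ≅ X₂)) :
    ∃ X : FibCat.overCat (Over.mk s) ⥤ᵇ P,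
      Nonempty (BasedFunctor.comp X F ≅ BasedFunctor.id _) := by
  obtain ⟨W, z₀, hz₀, hz₀s⟩ := hP.atlas
  obtain ⟨w, -⟩ := surjective_ofChart hP.isStack.1 hz₀s z
  obtain ⟨V, hV, hwV, -⟩ := exists_isAffineOpen_mem_and_subset (X := W.left) (x := w)
    (U := ⊤) trivial
  obtain ⟨m, hm, -⟩ := Ideal.exists_le_maximal _ (hV.primeIdealOf ⟨w, hwV⟩).2.ne_top
  let L := Γ(W.left, V) ⧸ m
  let : Field L := Ideal.Quotient.field m
  let q : Spec (CommRingCat.of L) ⟶ Spec Γ(W.left, V) :=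
    Spec.map (CommRingCat.ofHom (Ideal.Quotient.mk m))
  have : IsClosedImmersion q :=
    IsClosedImmersion.spec_of_surjective _ Ideal.Quotient.mk_surjective
  let jm : Spec (CommRingCat.of L) ⟶ W.left := q ≫ hV.fromSpec
  let T : Over S := Over.mk (jm ≫ W.hom)
  let jT : T ⟶ W := Over.homMk jm rfl
  let zT : FibCat.overCat T ⥤ᵇ P := BasedFunctor.comp (AlgSt.overMap jT) z₀
  have hjm : LocallyOfFiniteType jT.left := (inferInstance : LocallyOfFiniteType (q ≫ hV.fromSpec))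
  have hzT : AlgSt.LocQ (AlgSp.LocP @LocallyOfFiniteType) zT :=
    locQ_comp isSmoothLocalST_lft stableComp_locP (isAlgStack_overCat T) (isAlgStack_overCat W) hP
      (locQ_of_repWith stableBaseChange_locP descendsAlongAtlas_locP isSmoothLocalST_lft
        (isAlgStack_overCat T) (isAlgStack_overCat W) (repWith_overMap jT hjm))
      (locQ_of_repWith stableBaseChange_locP descendsAlongAtlas_locP isSmoothLocalST_lft
        (isAlgStack_overCat W) hP
        (repWith_locP_of_smooth (P := @LocallyOfFiniteType) (fun _ _ g (_ : Smooth g) => inferInstance)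
          hz₀))
  obtain ⟨π, ⟨ε⟩⟩ := exists_iso_overMap (BasedFunctor.comp zT F)
  let π₁ : Spec (CommRingCat.of L) ⟶ Spec (CommRingCat.of k) := π.left
  let : Algebra k L := (Spec.preimage π₁).hom.toAlgebra
  have hπ : Spec.map (CommRingCat.ofHom (algebraMap k L)) = π₁ := Spec.map_preimage _
  have hπs : π₁ ≫ s = T.hom := Over.w π
  obtain ⟨W', w', a, b, hw's, hla, ⟨φa⟩, ⟨φb⟩⟩ := exists_chart_fp hP zT hzT
  have hab : a ≫ π = b ≫ π := comp_eq_of_chart F ε φa φb
  have hsurj : Function.Surjective (algebraMap k L) := by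
    have : LocallyOfFiniteType (a.left : W'.left ⟶ Spec (CommRingCat.of L)) := hla
    refine algebraMap_surjective_of_pairs (W := W'.left) a.left b.left
      (by rw [hπ]; exact congrArg CommaMorphism.left hab) fun Ω _ i j hij => ?_
    let Ω₁ := AlgebraicClosure Ω
    let μ₀ : Ω →+* Ω₁ := algebraMap Ω Ω₁
    let i₁ : Spec (CommRingCat.of Ω₁) ⟶ Spec (CommRingCat.of L) :=
      Spec.map (CommRingCat.ofHom (μ₀.comp i))
    let j₁ : Spec (CommRingCat.of Ω₁) ⟶ Spec (CommRingCat.of L) :=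
      Spec.map (CommRingCat.ofHom (μ₀.comp j))
    have hij₁ : i₁ ≫ π₁ = j₁ ≫ π₁ := by
      simp only [i₁, j₁, ← hπ, ← Spec.map_comp, ← CommRingCat.ofHom_comp, RingHom.comp_assoc, hij]
    let sΩ : Spec (CommRingCat.of Ω₁) ⟶ S := i₁ ≫ T.hom
    let iO : Over.mk sΩ ⟶ T := Over.homMk i₁ rfl
    let jO : Over.mk sΩ ⟶ T := Over.homMk j₁ (by
      show j₁ ≫ T.hom = i₁ ≫ T.hom
      rw [← hπs, ← Category.assoc, ← Category.assoc, hij₁])
    have hπij : iO ≫ π = jO ≫ π := Over.OverMorphism.ext hij₁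
    obtain ⟨e⟩ := H Ω₁ sΩ (BasedFunctor.comp (AlgSt.overMap iO) zT)
      (BasedFunctor.comp (AlgSt.overMap jO) zT)
      ⟨(whiskerLeftIso _ ε).trans ((overMapComp iO π).trans ((overMapCongr hπij).trans
        ((overMapComp jO π).symm.trans (whiskerLeftIso _ ε.symm))))⟩
    obtain ⟨Ω', _, str, u₁, u₂, h₁, h₂⟩ := exists_refinement hP.isStack.1 hw's φa φb
      (R := Over.mk sΩ) (IsLocalRing.closedPoint Ω₁) iO jO e
    let u₃ : Spec (CommRingCat.of Ω') ⟶ Spec (CommRingCat.of Ω₁) := u₂.left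
    have hu₃ : Spec.map (CommRingCat.ofHom (Spec.preimage u₃).hom) = u₃ := Spec.map_preimage _
    refine ⟨Ω', inferInstance, (Spec.preimage u₃).hom.comp μ₀, u₁.left, ?_, ?_⟩
    · rw [RingHom.comp_assoc, CommRingCat.ofHom_comp, Spec.map_comp, hu₃]
      exact congrArg CommaMorphism.left h₁
    · rw [RingHom.comp_assoc, CommRingCat.ofHom_comp, Spec.map_comp, hu₃]
      exact congrArg CommaMorphism.left h₂
  have hiso : IsIso π₁ := by
    rw [← hπ]
    have : IsIso (CommRingCat.ofHom (algebraMap k L)) :=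
      (ConcreteCategory.isIso_iff_bijective _).2 ⟨(algebraMap k L).injective, hsurj⟩
    infer_instance
  let σ : Over.mk s ⟶ T := Over.homMk (inv π₁) (by
    show inv π₁ ≫ T.hom = s
    rw [← hπs, IsIso.inv_hom_id_assoc])
  obtain ⟨i₁⟩ := nonempty_overMap_id_iso' (Over.mk s)
  exact ⟨BasedFunctor.comp (AlgSt.overMap σ) zT, ⟨(whiskerLeftIso (AlgSt.overMap σ) ε).trans
    ((overMapComp σ π).trans ((overMapCongr (Over.OverMorphism.ext (IsIso.inv_hom_id π₁))).trans i₁))⟩⟩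

/-- Pairs of algebraically closed points of a base change over the same point are isomorphic. -/
theorem nonempty_iso_of_pair (hX : AlgSt.IsAlgStack Scheme.fppfPrecoverage 𝒳)
    (hY : AlgSt.IsAlgStack Scheme.fppfPrecoverage 𝒴) (f : 𝒳 ⥤ᵇ 𝒴)
    (hΔ : AlgSt.IsSurjective (FibCat.diag f)) {U : Over S} (yF : FibCat.overCat U ⥤ᵇ 𝒴)
    {Ω : Type u} [Field Ω] [IsAlgClosed Ω] (sΩ : Spec (CommRingCat.of Ω) ⟶ S)
    (X₁ X₂ : FibCat.overCat (Over.mk sΩ) ⥤ᵇ FibCat.fp yF f)
    (ζ : BasedFunctor.comp X₁ (FibCat.fpFst yF f) ≅ BasedFunctor.comp X₂ (FibCat.fpFst yF f)) :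
    Nonempty (X₁ ≅ X₂) := by
  let o₁ := X₁.obj (idObj _)
  let o₂ := X₂.obj (idObj _)
  let ζ₀ : o₁.obj.fst ⟶ o₂.obj.fst := (isoApp ζ (idObj _)).hom
  have hζ₀ : IsVert (FibCat.overCat U).p ζ₀ := isVert_isoApp ζ _
  obtain ⟨α, -, hα⟩ := exists_lift_hom hX hY f hΔ sΩ
    (a₁ := o₁.obj.snd) (a₂ := o₂.obj.snd) ((fp_p_snd o₁).trans (X₁.w_obj _))
    (o₁.obj.iso.inv ≫ yF.map ζ₀ ≫ o₂.obj.iso.hom)
    ((fp_isVert o₁).inv.comp ((isVert_map hζ₀).comp (fp_isVert o₂)))
  exact (nonempty_overIso_iff (isFibGrpd_fp (isFibGrpd_overCat U) hX.isStack.1 hY.isStack.1)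
    X₁ X₂).2 ⟨fpHom ζ₀ α (by rw [hα, Iso.hom_inv_id_assoc]), (isVert_fp_iff _).2 hζ₀⟩

/-- An algebraically closed point in the image lifts without extending the field. -/
theorem exists_lift_point (hX : AlgSt.IsAlgStack Scheme.fppfPrecoverage 𝒳)
    (hY : AlgSt.IsAlgStack Scheme.fppfPrecoverage 𝒴) (f : 𝒳 ⥤ᵇ 𝒴)
    (hΔ : AlgSt.IsSurjective (FibCat.diag f)) {k : Type u} [Field k] [IsAlgClosed k]
    (s : Spec (CommRingCat.of k) ⟶ S) (y : 𝒴.obj) (hy : 𝒴.p.obj y = Over.mk s)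
    (h : AlgSt.Points.mk ⟨k, s, y, hy⟩ ∈ Set.range (AlgSt.Points.map f)) :
    ∃ (x : 𝒳.obj) (φ : f.obj x ⟶ y), 𝒳.p.obj x = Over.mk s ∧ IsVert 𝒴.p φ := by
  let yF : FibCat.overCat (Over.mk s) ⥤ᵇ 𝒴 := overFunctor hY.isStack.1 y hy
  obtain ⟨p, hp⟩ := h
  obtain ⟨z, -, -⟩ := exists_points_fp hX.isStack.1 hY.isStack.1 (isFibGrpd_overCat (Over.mk s)) f yF
    (AlgSt.Points.ofChart (BasedFunctor.id _) (IsLocalRing.closedPoint k)) p
    (by rw [← ofChart_eq_map, ofChart_overFunctor hY.isStack.1 s y hy, hp])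
  obtain ⟨X, ⟨e⟩⟩ := exists_section (isAlgStack_fp hY.isStack hY.diag (isAlgStack_overCat _) hX yF f)
    s (FibCat.fpFst yF f) z fun Ω _ _ sΩ X₁ X₂ ⟨ζ⟩ => nonempty_iso_of_pair hX hY f hΔ yF sΩ X₁ X₂ ζ
  let ε' : BasedFunctor.comp (BasedFunctor.comp X (FibCat.fpSnd yF f)) f ≅ yF :=
    (whiskerLeftIso X (FibCat.fpIso yF f).symm).trans (whiskerRightIso e yF)
  obtain ⟨i, hi⟩ := overFunctor_eval hY.isStack.1 y hy
  exact ⟨(BasedFunctor.comp X (FibCat.fpSnd yF f)).obj (idObj _),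
    (isoApp ε' (idObj _)).hom ≫ i.hom, (BasedFunctor.comp X (FibCat.fpSnd yF f)).w_obj _,
    (isVert_isoApp _ _).comp hi⟩

end Groth.AlgStLift
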